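import Mathlib

set_option autoImplicit false
universe u

open TensorProduct IsLocalRing KaehlerDifferential

namespace Groth.Agent.H5.HypSm

section lemmaA
variable (k P S K : Type u) [CommRing k] [CommRing P] [Algebra k P] [CommRing S] [Algebra k S]
  [Algebra P S] [IsScalarTower k P S] [Field K] [Algebra S K] [Algebra P K] [IsScalarTower P S K]
  [Module.Free P Ω[P⁄k]] [Module.Finite P Ω[P⁄k]]

/-- the span of the differentials of the kernel in `K ⊗ Ω_P`. -/
noncomputable def W : Submodule K (K ⊗[P] Ω[P⁄k]) :=
  Submodule.span K ((fun x : P => (1 : K) ⊗ₜ[P] D k P x) '' (RingHom.ker (algebraMap P S) : Set P))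

theorem finrank_W_add (hsurj : Function.Surjective (algebraMap P S)) :
    Module.finrank K (W k P S K) + Module.finrank K (K ⊗[S] Ω[S⁄k]) =
      Module.finrank P Ω[P⁄k] := by
  haveI : Nontrivial S := (algebraMap S K).domain_nontrivial
  haveI : Nontrivial P := (algebraMap P S).domain_nontrivial
  let E : Algebra.Extension.{u} k S :=
    { Ring := P, σ := _, algebraMap_σ := Function.surjInv_eq hsurj }
  let α : K ⊗[S] E.Cotangent →ₗ[K] K ⊗[S] E.CotangentSpace := E.cotangentComplex.baseChange K
  let β : K ⊗[S] E.CotangentSpace →ₗ[K] K ⊗[S] Ω[S⁄k] := E.toKaehler.baseChange K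
  have hex : Function.Exact α β :=
    lTensor_exact K E.exact_cotangentComplex_toKaehler E.toKaehler_surjective
  have hβ : Function.Surjective β := LinearMap.lTensor_surjective K E.toKaehler_surjective
  let e : K ⊗[S] E.CotangentSpace ≃ₗ[K] K ⊗[P] Ω[P⁄k] :=
    AlgebraTensorModule.cancelBaseChange P S K K Ω[P⁄k]
  -- range α
  have hrange : (LinearMap.range α).map e.toLinearMap = W k P S K := by
    have hX : (⊤ : Submodule K (K ⊗[S] E.Cotangent)) =
        Submodule.span K (Set.range fun x : E.ker =>
          (1 : K) ⊗ₜ[S] Algebra.Extension.Cotangent.mk x) := by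
      rw [eq_comm, eq_top_iff]
      rintro y -
      induction y using TensorProduct.induction_on with
      | zero => exact zero_mem _
      | tmul a m =>
        obtain ⟨x, rfl⟩ := Algebra.Extension.Cotangent.mk_surjective m
        have : a ⊗ₜ[S] Algebra.Extension.Cotangent.mk x =
            a • ((1 : K) ⊗ₜ[S] Algebra.Extension.Cotangent.mk x) := by
          rw [TensorProduct.smul_tmul', smul_eq_mul, mul_one]
        rw [this]
        exact Submodule.smul_mem _ _ (Submodule.subset_span ⟨x, rfl⟩)
      | add x y hx hy => exact add_mem hx hy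
    have hα : ∀ x : E.ker, e (α ((1 : K) ⊗ₜ[S] Algebra.Extension.Cotangent.mk x)) =
        (1 : K) ⊗ₜ[P] D k P (x : P) := by
      intro x
      show e ((1 : K) ⊗ₜ[S] E.cotangentComplex (Algebra.Extension.Cotangent.mk x)) = _
      rw [Algebra.Extension.cotangentComplex_mk]
      show (AlgebraTensorModule.cancelBaseChange P S K K Ω[P⁄k])
        ((1 : K) ⊗ₜ[S] ((1 : S) ⊗ₜ[P] D k P (x : P))) = _
      rw [AlgebraTensorModule.cancelBaseChange_tmul, one_smul]
    rw [LinearMap.range_eq_map, hX, Submodule.map_span, Submodule.map_span, W]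
    congr 1
    ext v
    simp only [Set.mem_image, Set.mem_range, exists_exists_eq_and]
    constructor
    · rintro ⟨x, rfl⟩
      exact ⟨x.1, x.2, (hα x).symm⟩
    · rintro ⟨x, hx, rfl⟩
      exact ⟨⟨x, hx⟩, hα ⟨x, hx⟩⟩
  have h1 : Module.finrank K (W k P S K) = Module.finrank K (LinearMap.range α) := by
    rw [← hrange]
    exact LinearEquiv.finrank_map_eq e _
  have h2 := LinearMap.finrank_range_add_finrank_ker β
  rw [LinearMap.range_eq_top.mpr hβ, finrank_top, LinearMap.exact_iff.mp hex] at h2
  have h3 : Module.finrank K (K ⊗[S] E.CotangentSpace) = Module.finrank P Ω[P⁄k] := by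
    rw [Module.finrank_baseChange]
    exact Module.finrank_baseChange
  rw [h1, add_comm, h2, h3]

end lemmaA

section lemmaB
variable (k P K : Type u) [CommRing k] [CommRing P] [Algebra k P] [Field K] [Algebra P K]

/-- the span of differentials of an ideal killed in `K` is spanned by differentials of generators. -/
theorem span_D_eq {ι : Type*} (J : Ideal P) (f : ι → P) (hJ : J = Ideal.span (Set.range f))
    (hK : ∀ x ∈ J, algebraMap P K x = 0) :
    Submodule.span K ((fun x : P => (1 : K) ⊗ₜ[P] D k P x) '' (J : Set P)) =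
      Submodule.span K (Set.range fun i => (1 : K) ⊗ₜ[P] D k P (f i)) := by
  apply le_antisymm
  · rw [Submodule.span_le]
    rintro _ ⟨x, hx, rfl⟩
    have hx' : x ∈ Ideal.span (Set.range f) := hJ ▸ hx
    show (1 : K) ⊗ₜ[P] D k P x ∈ _
    clear hx
    induction hx' using Submodule.span_induction with
    | mem y hy =>
      obtain ⟨i, rfl⟩ := hy
      exact Submodule.subset_span ⟨i, rfl⟩
    | zero => simp
    | add y z _ _ hy hz =>
      rw [map_add, TensorProduct.tmul_add]
      exact add_mem hy hz
    | smul a y hy hy' =>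
      have hyJ : y ∈ J := hJ ▸ hy
      rw [smul_eq_mul, Derivation.leibniz, TensorProduct.tmul_add]
      refine add_mem ?_ ?_
      · have : (1 : K) ⊗ₜ[P] (a • D k P y) = algebraMap P K a • ((1 : K) ⊗ₜ[P] D k P y) := by
          rw [TensorProduct.tmul_smul, algebraMap_smul]
        rw [this]
        exact Submodule.smul_mem _ _ hy'
      · have : (1 : K) ⊗ₜ[P] (y • D k P a) = 0 := by
          rw [← TensorProduct.smul_tmul, Algebra.smul_def, hK y hyJ, zero_mul,
            TensorProduct.zero_tmul]
        rw [this]
        exact zero_mem _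
  · rw [Submodule.span_le]
    rintro _ ⟨i, rfl⟩
    refine Submodule.subset_span ⟨f i, ?_, rfl⟩
    rw [hJ]
    exact Ideal.subset_span ⟨i, rfl⟩

end lemmaB

section hyp
variable (A P S K : Type u) [CommRing A] [CommRing P] [Algebra A P] [CommRing S] [Algebra A S]
  [Algebra P S] [IsScalarTower A P S] [IsLocalRing S]
  [Field K] [Algebra S K] [Algebra P K] [IsScalarTower P S K]
  [Algebra.FormallySmooth A P] [Module.Free P Ω[P⁄A]] [Module.Finite P Ω[P⁄A]]

open scoped Classical in
/-- **hypersurface in a smooth local situation.** -/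
theorem hyp_local (hsurj : Function.Surjective (algebraMap P S)) (g : P)
    (hker : RingHom.ker (algebraMap P S) = Ideal.span {g}) (hreg : IsSMulRegular P g)
    (h₃ : maximalIdeal S ≤ RingHom.ker (algebraMap S K)) :
    (Algebra.FormallySmooth A S ↔ (1 : K) ⊗ₜ[P] D A P g ≠ 0) ∧
      Module.finrank K (K ⊗[S] Ω[S⁄A]) + (if (1 : K) ⊗ₜ[P] D A P g = 0 then 0 else 1) =
        Module.finrank P Ω[P⁄A] := by
  have hK : ∀ x ∈ RingHom.ker (algebraMap P S), algebraMap P K x = 0 := by
    intro x hx
    rw [IsScalarTower.algebraMap_apply P S K, RingHom.mem_ker.mp hx, map_zero]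
  constructor
  · have h₂ : (RingHom.ker (algebraMap P S)).FG := by
      rw [hker]; exact ⟨{g}, by simp⟩
    rw [Algebra.FormallySmooth.iff_injective_cotangentComplexBaseChange P K hsurj h₂ h₃]
    have hgmem : g ∈ RingHom.ker (algebraMap P S) := by
      rw [hker]; exact Ideal.mem_span_singleton_self g
    -- `P ≃ ker`
    let φ : P →ₗ[P] RingHom.ker (algebraMap P S) :=
      LinearMap.toSpanSingleton P _ ⟨g, hgmem⟩
    have hφ : Function.Bijective φ := by
      constructor
      · intro a b hab
        have h := congrArg Subtype.val hab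
        simp only [φ, LinearMap.toSpanSingleton_apply, Submodule.coe_smul, smul_eq_mul] at h
        apply hreg
        simpa [mul_comm] using h
      · rintro ⟨x, hx⟩
        rw [hker, Ideal.mem_span_singleton'] at hx
        obtain ⟨c, rfl⟩ := hx
        exact ⟨c, Subtype.ext (by simp [φ])⟩
    let φe : P ≃ₗ[P] RingHom.ker (algebraMap P S) := LinearEquiv.ofBijective φ hφ
    let Ψ : K ≃ₗ[K] K ⊗[P] RingHom.ker (algebraMap P S) :=
      (AlgebraTensorModule.rid P K K).symm ≪≫ₗ
        AlgebraTensorModule.congr (LinearEquiv.refl K K) φe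
    have hΨ : ∀ c : K, cotangentComplexBaseChange A S P K (Ψ c) = c • ((1 : K) ⊗ₜ[P] D A P g) := by
      intro c
      have : Ψ c = c ⊗ₜ[P] (⟨g, hgmem⟩ : RingHom.ker (algebraMap P S)) := by
        simp [Ψ, φe, φ]
      rw [this, cotangentComplexBaseChange_tmul, kerToTensor_apply]
    rw [← Function.Injective.of_comp_iff' _ Ψ.bijective]
    constructor
    · intro hinj hv
      have h1 : (cotangentComplexBaseChange A S P K ∘ Ψ) 1 =
          (cotangentComplexBaseChange A S P K ∘ Ψ) 0 := by
        simp only [Function.comp_apply, hΨ, hv, smul_zero]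
      exact one_ne_zero (hinj h1)
    · intro hv a b hab
      simp only [Function.comp_apply, hΨ] at hab
      exact smul_left_injective K hv hab
  · have h1 := finrank_W_add A P S K hsurj
    have h2 : W A P S K = Submodule.span K {(1 : K) ⊗ₜ[P] D A P g} := by
      rw [W, span_D_eq A P K _ (fun _ : Unit => g) (by rw [hker]; simp) hK]
      congr 1
      ext v
      simp
    rw [h2] at h1
    split_ifs with hv
    · have : Module.finrank K (Submodule.span K {(1 : K) ⊗ₜ[P] D A P g}) = 0 := by
        rw [hv, Submodule.span_zero_singleton, finrank_bot]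
      omega
    · rw [finrank_span_singleton hv] at h1
      omega

end hyp

end Groth.Agent.H5.HypSm
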