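import Mathlib
import Groth.Agent.Lib.Helper5.HypSm.A
import Groth.Agent.Lib.Helper5.ExtAnn.C
import Groth.Agent.Lib.Helper5.SmTower.A

set_option autoImplicit false
universe u

open TensorProduct IsLocalRing KaehlerDifferential

namespace Groth.Agent.H5.HypSm

section kernel
variable {B R : Type u} [CommRing B] [CommRing R] [Algebra B R]
  (hsurj : Function.Surjective (algebraMap B R)) (g : B)
  (hker : RingHom.ker (algebraMap B R) = Ideal.span {g}) (p : Ideal R) [p.IsPrime]

include hsurj hker in
lemma ker_localRingHom :
    RingHom.ker (Localization.localRingHom (p.comap (algebraMap B R)) p (algebraMap B R) rfl) =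
      Ideal.span {algebraMap B (Localization.AtPrime (p.comap (algebraMap B R))) g} := by
  set q := p.comap (algebraMap B R) with hq
  apply le_antisymm
  · intro x hx
    obtain ⟨b, s, rfl⟩ := IsLocalization.exists_mk'_eq q.primeCompl x
    rw [RingHom.mem_ker, Localization.localRingHom_mk', IsLocalization.mk'_eq_zero_iff] at hx
    obtain ⟨t, ht⟩ := hx
    obtain ⟨t', ht'⟩ := hsurj t.1
    have ht'q : t' ∈ q.primeCompl := by
      intro h
      apply t.2
      rw [← ht']
      exact h
    have h1 : t' * b ∈ RingHom.ker (algebraMap B R) := by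
      rw [RingHom.mem_ker, map_mul, ht']
      exact ht
    rw [hker, Ideal.mem_span_singleton'] at h1
    obtain ⟨c, hc⟩ := h1
    have h2 : IsLocalization.mk' (Localization.AtPrime q) b s =
        IsLocalization.mk' (Localization.AtPrime q) c (s * ⟨t', ht'q⟩) *
          algebraMap B (Localization.AtPrime q) g := by
      rw [mul_comm, IsLocalization.mul_mk'_eq_mk'_of_mul, mul_comm g c, hc, mul_comm t' b]
      exact (IsLocalization.mk'_cancel b s ⟨t', ht'q⟩).symm
    rw [h2]
    exact Ideal.mul_mem_left _ _ (Ideal.mem_span_singleton_self _)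
  · rw [Ideal.span_le, Set.singleton_subset_iff, SetLike.mem_coe, RingHom.mem_ker,
      Localization.localRingHom_to_map]
    have : g ∈ RingHom.ker (algebraMap B R) := by rw [hker]; exact Ideal.mem_span_singleton_self g
    rw [RingHom.mem_ker.mp this, map_zero]

end kernel

end Groth.Agent.H5.HypSm
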