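import Mathlib
import Groth.Agent.Lib.Helper5.HypSm.B

set_option autoImplicit false
universe u

open TensorProduct IsLocalRing KaehlerDifferential

namespace Groth.Agent.H5.HypSm

open scoped Classical in
theorem main19586 (A B R : Type u) [CommRing A] [CommRing B] [CommRing R]
    [Algebra A B] [Algebra B R] [Algebra A R] [IsScalarTower A B R] [Algebra.Smooth A B] (n : ℕ)
    (hn : ∀ p : PrimeSpectrum B, Module.rankAtStalk (Ω[B⁄A]) p = n)
    (g : B) (hg : IsSMulRegular B g) (hsurj : Function.Surjective (algebraMap B R))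
    (hker : RingHom.ker (algebraMap B R) = Ideal.span {g}) (p : PrimeSpectrum R) :
    (⋀[R]^n (Ω[R⁄A])).annihilator ≤ p.asIdeal ↔ p ∉ Algebra.smoothLocus A R := by
  haveI : Algebra.FiniteType A R :=
    Algebra.FiniteType.of_surjective (IsScalarTower.toAlgHom A B R) hsurj
  set q : Ideal B := p.asIdeal.under B with hq
  letI : Algebra (Localization.AtPrime q) (Localization.AtPrime p.asIdeal) :=
    Localization.AtPrime.algebraOfLiesOver q p.asIdeal
  let Bq := Localization.AtPrime q
  let Rp := Localization.AtPrime p.asIdeal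
  let K := p.asIdeal.ResidueField
  letI : Algebra Bq K := ((algebraMap Rp K).comp (algebraMap Bq Rp)).toAlgebra
  haveI : IsScalarTower Bq Rp K := IsScalarTower.of_algebraMap_eq' rfl
  haveI : Algebra.FormallySmooth B Bq := Algebra.FormallySmooth.of_isLocalization q.primeCompl
  haveI : Algebra.FormallySmooth A Bq := Algebra.FormallySmooth.comp A B Bq
  haveI : Algebra.FormallyEtale B Bq := Algebra.FormallyEtale.of_isLocalization q.primeCompl
  let eΩ : Bq ⊗[B] Ω[B⁄A] ≃ₗ[Bq] Ω[Bq⁄A] :=
    KaehlerDifferential.tensorKaehlerEquivOfFormallyEtale A B Bq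
  haveI : Module.Finite Bq Ω[Bq⁄A] := Module.Finite.equiv eΩ
  haveI : Module.Projective Bq Ω[Bq⁄A] := Module.Projective.of_equiv eΩ
  haveI : Module.Free Bq Ω[Bq⁄A] := Module.free_of_flat_of_isLocalRing
  have hsurj' : Function.Surjective (algebraMap Bq Rp) :=
    RingHom.surjective_localRingHom_of_surjective (algebraMap B R) hsurj p.asIdeal
  have hker' : RingHom.ker (algebraMap Bq Rp) = Ideal.span {algebraMap B Bq g} :=
    ker_localRingHom hsurj g hker p.asIdeal
  have hreg' : IsSMulRegular Bq (algebraMap B Bq g) := hg.of_flat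
  have h₃ : maximalIdeal Rp ≤ RingHom.ker (algebraMap Rp K) := by
    intro x hx
    rw [RingHom.mem_ker]
    exact (IsLocalRing.residue_eq_zero_iff x).mpr hx
  obtain ⟨h1, h2⟩ := hyp_local A Bq Rp K hsurj' (algebraMap B Bq g) hker' hreg' h₃
  -- the rank of `Ω[Bq/A]`
  have hrank : Module.finrank Bq Ω[Bq⁄A] = n := by
    have e1 := Module.rankAtStalk_eq_finrank_of_free (R := Bq) (M := Ω[Bq⁄A])
    have e2 := congrFun e1 (IsLocalRing.closedPoint Bq)
    rw [Module.rankAtStalk_eq_of_equiv eΩ.symm, Module.rankAtStalk_baseChange, hn] at e2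
    exact e2.symm
  -- transfer of the fibre of `Ω[R/A]`
  have hfib : Module.finrank K (K ⊗[Rp] Ω[Rp⁄A]) = Module.finrank K (K ⊗[R] Ω[R⁄A]) :=
    (Groth.Agent.H5.SmTower.e₂ A R p.asIdeal).finrank_eq.symm
  rw [Groth.Agent.H5.ExtAnn.annihilator_le_iff, ← hfib]
  show _ ↔ ¬ Algebra.FormallySmooth A Rp
  rw [h1, not_not]
  rw [hrank] at h2
  constructor
  · intro h
    by_contra hv
    rw [if_neg hv] at h2
    omega
  · intro hv
    rw [if_pos hv] at h2
    omega

end Groth.Agent.H5.HypSm
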